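import Mathlib

/-!
Paths inside a free group on the edges of a graph, and a fixed word of a finite affine action.
-/

set_option autoImplicit false

namespace Cfsg.Agent.Lib.FusionRealize

variable {E V : Type*}

/-- The word is a path from `a` to `b`. -/
def FChain (s t : E → V) : V → List (E × Bool) → V → Prop
  | a, [], b => a = b
  | a, (e, d) :: w, b => a = cond d (s e) (t e) ∧ FChain s t (cond d (t e) (s e)) w b

variable {s t : E → V}

theorem fchain_append {a b : V} {w₁ w₂ : List (E × Bool)} :
    FChain s t a (w₁ ++ w₂) b ↔ ∃ c, FChain s t a w₁ c ∧ FChain s t c w₂ b := by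
  induction w₁ generalizing a with
  | nil => simp [FChain]
  | cons l w ih =>
    obtain ⟨e, d⟩ := l
    simp [FChain, ih, and_assoc]

theorem fchain_unique {a b b' : V} {w : List (E × Bool)} (h : FChain s t a w b)
    (h' : FChain s t a w b') : b = b' := by
  induction w generalizing a with
  | nil => exact h.symm.trans h'
  | cons l w ih => exact ih h.2 h'.2

theorem fchain_invRev {a b : V} {w : List (E × Bool)} (h : FChain s t a w b) :
    FChain s t b (FreeGroup.invRev w) a := by
  induction w generalizing a with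
  | nil => exact h.symm
  | cons l w ih =>
    obtain ⟨e, d⟩ := l
    rw [FreeGroup.invRev_cons, fchain_append]
    refine ⟨_, ih h.2, ?_⟩
    cases d <;> simp [FreeGroup.invRev, FChain, h.1]

theorem fchain_step {a b : V} {w w' : List (E × Bool)} (hs : FreeGroup.Red.Step w w')
    (h : FChain s t a w b) : FChain s t a w' b := by
  cases hs with
  | @not L₁ L₂ x d =>
    obtain ⟨c, h1, h2, h3, h4⟩ := fchain_append.mp h
    refine fchain_append.mpr ⟨c, h1, ?_⟩
    cases d <;> simp_all

theorem fchain_red {a b : V} {w w' : List (E × Bool)} (hs : FreeGroup.Red w w')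
    (h : FChain s t a w b) : FChain s t a w' b := by
  induction hs with
  | refl => exact h
  | tail _ hh ih => exact fchain_step hh ih

variable [DecidableEq E]

/-- The element is a path from `a` to `b`. -/
def FPath (s t : E → V) (a : V) (x : FreeGroup E) (b : V) : Prop := FChain s t a x.toWord b

theorem fpath_one (a : V) : FPath s t a 1 a := by simp [FPath, FChain]

theorem fpath_mul {a b c : V} {x y : FreeGroup E} (hx : FPath s t a x b) (hy : FPath s t b y c) :
    FPath s t a (x * y) c := by
  rw [FPath, FreeGroup.toWord_mul]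
  exact fchain_red FreeGroup.reduce.red (fchain_append.mpr ⟨b, hx, hy⟩)

theorem fpath_inv {a b : V} {x : FreeGroup E} (hx : FPath s t a x b) : FPath s t b x⁻¹ a := by
  rw [FPath, FreeGroup.toWord_inv]
  exact fchain_invRev hx

theorem toWord_congr (e : E ≃ E) (x : FreeGroup E) :
    (FreeGroup.freeGroupCongr e x).toWord = x.toWord.map (Prod.map e id) := by
  conv_lhs => rw [← FreeGroup.mk_toWord (x := x)]
  rw [show FreeGroup.freeGroupCongr e (FreeGroup.mk x.toWord) =
    FreeGroup.mk (x.toWord.map (Prod.map e id)) from rfl, FreeGroup.toWord_mk]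
  refine FreeGroup.IsReduced.reduce_eq ?_
  rw [FreeGroup.IsReduced, List.isChain_map]
  refine List.IsChain.imp ?_ FreeGroup.isReduced_toWord
  intro p q h hpq
  exact h (e.injective hpq)

theorem fpath_congr {a b : V} {x : FreeGroup E} (e : E ≃ E) (f : V → V)
    (hs : ∀ z, s (e z) = f (s z)) (ht : ∀ z, t (e z) = f (t z)) (hx : FPath s t a x b) :
    FPath s t (f a) (FreeGroup.freeGroupCongr e x) (f b) := by
  rw [FPath, toWord_congr]
  revert hx
  rw [FPath]
  induction x.toWord generalizing a with
  | nil => intro h; exact congrArg f h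
  | cons l w ih =>
    obtain ⟨z, d⟩ := l
    rintro ⟨h1, h2⟩
    refine ⟨?_, ?_⟩
    · cases d <;> simp [h1, hs, ht]
    · have := ih h2
      cases d <;> simpa [hs, ht] using this

theorem fpath_prefix {a b : V} {x y : FreeGroup E} {l : E × Bool} {v : List (E × Bool)}
    (hx : ∃ c, FPath s t a x c) (hy : FPath s t a y b) (hw : (x⁻¹ * y).toWord = l :: v) :
    ∃ c, FPath s t a (x * FreeGroup.mk [l]) c := by
  obtain ⟨c, hc⟩ := hx
  have h := fpath_mul (fpath_inv hc) hy
  rw [FPath, hw] at h
  obtain ⟨e, d⟩ := l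
  refine ⟨cond d (t e) (s e), fpath_mul hc ?_⟩
  rw [FPath, FreeGroup.toWord_mk, FreeGroup.IsReduced.singleton.reduce_eq]
  exact ⟨h.1, rfl⟩

theorem toWord_inv_mul {x o : FreeGroup E}
    (h : ∀ a ∈ x.toWord.head?, ∀ b ∈ o.toWord.head?, a ≠ b) :
    (x⁻¹ * o).toWord = FreeGroup.invRev x.toWord ++ o.toWord := by
  rw [FreeGroup.toWord_mul, FreeGroup.toWord_inv]
  refine FreeGroup.IsReduced.reduce_eq ?_
  rw [FreeGroup.IsReduced, List.isChain_append]
  refine ⟨?_, FreeGroup.isReduced_toWord, ?_⟩
  · rw [← FreeGroup.toWord_inv]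
    exact FreeGroup.isReduced_toWord
  · intro p hp q hq hpq
    rw [Option.mem_def, FreeGroup.invRev, List.getLast?_reverse, List.head?_map, Option.map_eq_some_iff] at hp
    obtain ⟨r, hr, rfl⟩ := hp
    have hne := h r hr q hq
    obtain ⟨r1, r2⟩ := r
    obtain ⟨q1, q2⟩ := q
    simp only at hpq ⊢
    subst hpq
    cases r2 <;> cases q2 <;> simp_all

/-- One of two elements starting differently is further away. -/
theorem norm_lt_max {x y o : FreeGroup E} (hx : x ≠ 1) (hy : y ≠ 1)
    (hxy : ∀ a ∈ x.toWord.head?, ∀ b ∈ y.toWord.head?, a ≠ b) :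
    FreeGroup.norm o < max (FreeGroup.norm (x⁻¹ * o)) (FreeGroup.norm (y⁻¹ * o)) := by
  have key : ∀ z : FreeGroup E, z ≠ 1 → (∀ a ∈ z.toWord.head?, ∀ b ∈ o.toWord.head?, a ≠ b) →
      FreeGroup.norm o < FreeGroup.norm (z⁻¹ * o) := by
    intro z hz h
    have hpos : 0 < z.toWord.length :=
      List.length_pos_iff.mpr (fun e => hz (FreeGroup.toWord_eq_nil_iff.mp e))
    simp only [FreeGroup.norm, toWord_inv_mul h, List.length_append, FreeGroup.invRev_length]
    omega
  by_cases h : ∀ a ∈ x.toWord.head?, ∀ b ∈ o.toWord.head?, a ≠ b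
  · exact lt_max_of_lt_left (key x hx h)
  · push Not at h
    obtain ⟨a, ha, b, hb, rfl⟩ := h
    refine lt_max_of_lt_right (key y hy fun c hc d hd e => hxy a ha c hc ?_)
    rw [Option.mem_def] at hb hd
    rw [hb, Option.some.injEq] at hd
    rw [e, hd]

/-- A finite group of isometries of the tree of paths fixes a path. -/
theorem exists_fixed_word {H : Type*} [Group H] [Finite H] (a : H → FreeGroup E) (π : H → (E ≃ E))
    (ha : ∀ h k, a (h * k) = a h * FreeGroup.freeGroupCongr (π h) (a k))
    (C : Set (FreeGroup E)) (hC1 : (1 : FreeGroup E) ∈ C)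
    (hCH : ∀ h, ∀ x ∈ C, a h * FreeGroup.freeGroupCongr (π h) x ∈ C)
    (hCp : ∀ x ∈ C, ∀ y ∈ C, ∀ l v, (x⁻¹ * y).toWord = l :: v → x * FreeGroup.mk [l] ∈ C) :
    ∃ x ∈ C, ∀ h, a h * FreeGroup.freeGroupCongr (π h) x = x := by
  classical
  haveI := Fintype.ofFinite H
  let r : FreeGroup E → ℕ := fun x => Finset.univ.sup fun k => FreeGroup.norm (x⁻¹ * a k)
  have hr : ∀ h x, r (a h * FreeGroup.freeGroupCongr (π h) x) = r x := by
    intro h x
    have e : ∀ k, FreeGroup.norm ((a h * FreeGroup.freeGroupCongr (π h) x)⁻¹ * a (h * k)) =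
        FreeGroup.norm (x⁻¹ * a k) := by
      intro k
      rw [ha, mul_inv_rev, mul_assoc, inv_mul_cancel_left, ← map_inv, ← map_mul]
      show (FreeGroup.freeGroupCongr (π h) (x⁻¹ * a k)).toWord.length = (x⁻¹ * a k).toWord.length
      rw [toWord_congr, List.length_map]
    refine le_antisymm (Finset.sup_le fun k _ => ?_) (Finset.sup_le fun k _ => ?_)
    · rw [← mul_inv_cancel_left h k, e]
      exact Finset.le_sup (f := fun k => FreeGroup.norm (x⁻¹ * a k)) (Finset.mem_univ _)
    · rw [← e k]
      exact Finset.le_sup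
        (f := fun k => FreeGroup.norm ((a h * FreeGroup.freeGroupCongr (π h) x)⁻¹ * a k)) (Finset.mem_univ _)
  have hex : ∃ n, ∃ x ∈ C, r x = n := ⟨_, 1, hC1, rfl⟩
  obtain ⟨x, hxC, hxr⟩ := Nat.find_spec hex
  have hmin : ∀ z ∈ C, Nat.find hex ≤ r z := fun z hz => Nat.find_le ⟨z, hz, rfl⟩
  -- minimisers are adjacent
  have hadj : ∀ y z : FreeGroup E, y ∈ C → z ∈ C → r y = Nat.find hex → r z = Nat.find hex → y ≠ z →
      ∃ l, y⁻¹ * z = FreeGroup.mk [l] := by
    intro y z hy hz hyr hzr hne
    cases hw : (y⁻¹ * z).toWord with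
    | nil => exact absurd (inv_mul_eq_one.mp (FreeGroup.toWord_eq_nil_iff.mp hw)) hne
    | cons l v =>
      cases v with
      | nil => exact ⟨l, by rw [← FreeGroup.mk_toWord (x := y⁻¹ * z), hw]⟩
      | cons l' v =>
        exfalso
        have hred : FreeGroup.IsReduced (l :: l' :: v) := hw ▸ FreeGroup.isReduced_toWord
        set m := y * FreeGroup.mk [l] with hm
        have hmC : m ∈ C := hCp y hy z hz l _ hw
        have hx' : (m⁻¹ * y).toWord = [(l.1, !l.2)] := by
          rw [hm, mul_inv_rev, inv_mul_cancel_right, FreeGroup.toWord_inv, FreeGroup.toWord_mk,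
            FreeGroup.IsReduced.singleton.reduce_eq]
          simp [FreeGroup.invRev]
        have hz' : (m⁻¹ * z).toWord = l' :: v := by
          rw [hm, mul_inv_rev, mul_assoc, ← FreeGroup.mk_toWord (x := y⁻¹ * z), hw,
            show FreeGroup.mk (l :: l' :: v) = FreeGroup.mk [l] * FreeGroup.mk (l' :: v) from
              (FreeGroup.mul_mk (L₁ := [l]) (L₂ := l' :: v)).symm,
            inv_mul_cancel_left, FreeGroup.toWord_mk]
          exact (FreeGroup.isReduced_cons_cons.mp hred).2.reduce_eq
        have hlt : r m < Nat.find hex := by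
          have hpt : ∀ k, FreeGroup.norm (m⁻¹ * a k) < Nat.find hex := by
            intro k
            refine lt_of_lt_of_le (norm_lt_max (x := m⁻¹ * y) (y := m⁻¹ * z) ?_ ?_ ?_) (max_le ?_ ?_)
            · rw [ne_eq, ← FreeGroup.toWord_eq_nil_iff, hx']; simp
            · rw [ne_eq, ← FreeGroup.toWord_eq_nil_iff, hz']; simp
            · intro p hp q hq e
              simp only [hx', List.head?_cons, Option.mem_def, Option.some.injEq] at hp
              simp only [hz', List.head?_cons, Option.mem_def, Option.some.injEq] at hq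
              subst hp hq
              have := (FreeGroup.isReduced_cons_cons.mp hred).1 (by rw [← e])
              rw [← e] at this
              simp at this
            · rw [mul_inv_rev, inv_inv, mul_assoc, mul_inv_cancel_left, ← hyr]
              exact Finset.le_sup (f := fun k => FreeGroup.norm (y⁻¹ * a k)) (Finset.mem_univ k)
            · rw [mul_inv_rev, inv_inv, mul_assoc, mul_inv_cancel_left, ← hzr]
              exact Finset.le_sup (f := fun k => FreeGroup.norm (z⁻¹ * a k)) (Finset.mem_univ k)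
          exact (Finset.sup_lt_iff (lt_of_le_of_lt (Nat.zero_le _) (hpt 1))).mpr fun k _ => hpt k
        exact absurd (hmin m hmC) (not_le.mpr hlt)
  refine ⟨x, hxC, fun h => ?_⟩
  by_contra hne
  set y := a h * FreeGroup.freeGroupCongr (π h) x with hy
  have hyC : y ∈ C := hCH h x hxC
  have hyr : r y = Nat.find hex := (hr h x).trans hxr
  obtain ⟨l, hl⟩ := hadj x y hxC hyC hxr hyr (Ne.symm hne)
  have hyl : y = x * FreeGroup.mk [l] := by rw [← hl, mul_inv_cancel_left]
  set z := a h * FreeGroup.freeGroupCongr (π h) y with hz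
  have hl' : FreeGroup.freeGroupCongr (π h) (FreeGroup.mk [l]) = FreeGroup.mk [(π h l.1, l.2)] := rfl
  have hzy : z = y * FreeGroup.mk [(π h l.1, l.2)] := by
    rw [hz, hyl, map_mul, ← mul_assoc, ← hy, hl', ← hyl]
  have hred2 : FreeGroup.IsReduced [l, (π h l.1, l.2)] :=
    FreeGroup.isReduced_cons_cons.mpr ⟨fun _ => rfl, FreeGroup.IsReduced.singleton⟩
  have hxz : (x⁻¹ * z).toWord = [l, (π h l.1, l.2)] := by
    rw [hzy, hyl, ← mul_assoc, inv_mul_cancel_left, FreeGroup.mul_mk, FreeGroup.toWord_mk]
    exact hred2.reduce_eq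
  obtain ⟨m, hm⟩ := hadj x z hxC (hCH h y hyC) hxr ((hr h y).trans hyr) (fun e => by
    rw [← e, inv_mul_cancel, FreeGroup.toWord_one] at hxz
    exact absurd hxz (by simp))
  rw [hm, FreeGroup.toWord_mk, FreeGroup.IsReduced.singleton.reduce_eq] at hxz
  simp at hxz

end Cfsg.Agent.Lib.FusionRealize
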