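import Mathlib
import Cfsg.Prelude.Def_FusionSystem
import Cfsg.Agent.Lib.FusionRealize.Paths

/-!
An infinite group realizing a fusion system.
-/

set_option autoImplicit false
set_option maxHeartbeats 1000000

universe u

namespace Cfsg.Agent.Lib.FusionRealize

theorem exists_perm_intertwine {S : Type*} [Group S] [Finite S] (A : Subgroup S) (f : ↥A →* S)
    (hf : Function.Injective f) :
    ∃ σ : Equiv.Perm S, ∀ (a : ↥A) (s : S), σ (s * (a : S)⁻¹) = σ s * (f a)⁻¹ := by
  classical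
  have gbij : ∀ B : Subgroup S, Function.Bijective fun p : (S ⧸ B) × ↥B => p.1.out * (p.2 : S) := by
    intro B
    refine ⟨fun p q h => ?_, fun s => ?_⟩
    · have h1 : p.1 = q.1 := by
        have := congrArg (QuotientGroup.mk : S → S ⧸ B) h
        simpa only [QuotientGroup.mk_mul_of_mem _ p.2.2, QuotientGroup.mk_mul_of_mem _ q.2.2,
          QuotientGroup.out_eq'] using this
      refine Prod.ext h1 (Subtype.ext ?_)
      simp only [h1] at h
      exact mul_left_cancel h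
    · exact ⟨⟨(s : S ⧸ B), ⟨(s : S ⧸ B).out⁻¹ * s,
        QuotientGroup.eq.mp (QuotientGroup.out_eq' _)⟩⟩, mul_inv_cancel_left _ _⟩
  have hcard : Nat.card (S ⧸ A) = Nat.card (S ⧸ f.range) := by
    have h1 := A.card_mul_index
    have h2 := f.range.card_mul_index
    rw [← Nat.card_congr (MonoidHom.ofInjective hf).toEquiv] at h2
    exact Nat.eq_of_mul_eq_mul_left Nat.card_pos (h1.trans h2.symm)
  obtain ⟨qe⟩ := Finite.card_eq.mp hcard
  let gA := Equiv.ofBijective _ (gbij A)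
  let gB := Equiv.ofBijective _ (gbij f.range)
  let σ : Equiv.Perm S :=
    gA.symm.trans ((qe.prodCongr (MonoidHom.ofInjective hf).toEquiv).trans gB)
  refine ⟨σ, fun a s => ?_⟩
  obtain ⟨⟨q, b⟩, rfl⟩ := gA.surjective s
  have h : gA (q, b) * (a : S)⁻¹ = gA (q, b * a⁻¹) := by simp [gA, mul_assoc]
  rw [h]
  simp [σ, gB, Equiv.prodCongr, mul_assoc]
  rfl

variable {Ω : Type u} [Group Ω] {S : Subgroup Ω}

/-- The right regular action. -/
def frR (S : Subgroup Ω) : ↥S →* Equiv.Perm ↥S where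
  toFun x := Equiv.mulRight x⁻¹
  map_one' := by ext; simp
  map_mul' x y := by
    refine Equiv.ext fun z => ?_
    simp [mul_assoc]

theorem frR_injective : Function.Injective (frR S) := fun x y h => by
  have := Equiv.ext_iff.mp h 1
  simpa [frR] using this

/-- The inclusion of a subgroup of `S`. -/
def frIncl {P : Subgroup Ω} (hP : P ≤ S) : ↥P →* ↥S := Subgroup.inclusion hP

theorem fr_intertwine [Finite ↥S] (F : Cfsg.FusionSystem S) {P : Subgroup Ω} {φ : P →* Ω}
    (hφ : φ ∈ F.Hom P) : ∃ σ : Equiv.Perm ↥S, ∀ x : P,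
      σ * frR S (frIncl (F.le_of_mem hφ).1 x) = frR S ⟨φ x, (F.le_of_mem hφ).2 x⟩ * σ := by
  obtain ⟨hP, hv⟩ := F.le_of_mem hφ
  let f : ↥(P.subgroupOf S) →* ↥S :=
    { toFun := fun a => ⟨φ ⟨((a : ↥S) : Ω), a.2⟩, hv _⟩
      map_one' := Subtype.ext (map_one φ)
      map_mul' := fun a b => Subtype.ext (map_mul φ ⟨((a : ↥S) : Ω), a.2⟩ ⟨((b : ↥S) : Ω), b.2⟩) }
  have hf : Function.Injective f := fun a b h => by
    have := F.injective_of_mem hφ (congrArg Subtype.val h)
    exact Subtype.ext (Subtype.ext (congrArg (fun y : ↥P => (y : Ω)) this))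
  obtain ⟨σ, hσ⟩ := exists_perm_intertwine (P.subgroupOf S) f hf
  refine ⟨σ, fun x => Equiv.ext fun s => ?_⟩
  exact hσ ⟨frIncl hP x, x.2⟩ s

section

variable [Finite ↥S] (F : Cfsg.FusionSystem S)

/-- The maps of the system. -/
abbrev FrIdx : Type u := Σ P : Subgroup Ω, {φ : P →* Ω // φ ∈ F.Hom P}

noncomputable def frσ (i : FrIdx F) : Equiv.Perm ↥S := Classical.choose (fr_intertwine F i.2.2)

theorem frσ_spec (i : FrIdx F) (x : i.1) :
    frσ F i * frR S (frIncl (F.le_of_mem i.2.2).1 x) =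
      frR S ⟨i.2.1 x, (F.le_of_mem i.2.2).2 x⟩ * frσ F i :=
  Classical.choose_spec (fr_intertwine F i.2.2) x

def frK (i : FrIdx F) : Subgroup (Equiv.Perm ↥S) :=
  ((frR S).comp (frIncl (F.le_of_mem i.2.2).1)).range

/-- The edges. -/
abbrev FrEdge : Type u := Σ i : FrIdx F, Equiv.Perm ↥S ⧸ frK F i

/-- The vertices. -/
abbrev FrVert (S : Subgroup Ω) : Type u := Equiv.Perm ↥S ⧸ (frR S).range

omit [Finite ↥S] in
theorem frK_le (i : FrIdx F) : frK F i ≤ (frR S).range := by
  rintro _ ⟨x, rfl⟩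
  exact ⟨_, rfl⟩

noncomputable def frSrc (e : FrEdge F) : FrVert S :=
  Quotient.liftOn' e.2 (fun γ => (γ : FrVert S)) fun γ δ h => by
    rw [QuotientGroup.leftRel_apply] at h
    exact QuotientGroup.eq.mpr (frK_le F e.1 h)

noncomputable def frTgt (e : FrEdge F) : FrVert S :=
  Quotient.liftOn' e.2 (fun γ => ((γ * (frσ F e.1)⁻¹ : Equiv.Perm ↥S) : FrVert S)) fun γ δ h => by
    rw [QuotientGroup.leftRel_apply] at h
    obtain ⟨x, hx⟩ := h
    refine QuotientGroup.eq.mpr ?_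
    refine ⟨⟨e.1.2.1 x, (F.le_of_mem e.1.2.2).2 x⟩, ?_⟩
    simp only [MonoidHom.comp_apply] at hx
    rw [mul_inv_rev, inv_inv, mul_assoc, ← mul_assoc γ⁻¹, ← hx, ← mul_assoc, frσ_spec,
      mul_inv_cancel_right]

theorem frSrc_mk (i : FrIdx F) (γ : Equiv.Perm ↥S) :
    frSrc F ⟨i, (γ : Equiv.Perm ↥S ⧸ frK F i)⟩ = (γ : FrVert S) := rfl

theorem frTgt_mk (i : FrIdx F) (γ : Equiv.Perm ↥S) :
    frTgt F ⟨i, (γ : Equiv.Perm ↥S ⧸ frK F i)⟩ = ((γ * (frσ F i)⁻¹ : Equiv.Perm ↥S) : FrVert S) := rfl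

noncomputable def frPerm (γ : Equiv.Perm ↥S) : FrEdge F ≃ FrEdge F :=
  Equiv.sigmaCongrRight fun _ => MulAction.toPerm γ

theorem frSrc_perm (γ : Equiv.Perm ↥S) (e : FrEdge F) : frSrc F (frPerm F γ e) = γ • frSrc F e := by
  obtain ⟨i, q⟩ := e
  induction q using QuotientGroup.induction_on with
  | H δ => rfl

theorem frTgt_perm (γ : Equiv.Perm ↥S) (e : FrEdge F) : frTgt F (frPerm F γ e) = γ • frTgt F e := by
  obtain ⟨i, q⟩ := e
  induction q using QuotientGroup.induction_on with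
  | H δ =>
    show ((γ * δ * (frσ F i)⁻¹ : Equiv.Perm ↥S) : FrVert S) =
      ((γ * (δ * (frσ F i)⁻¹) : Equiv.Perm ↥S) : FrVert S)
    rw [mul_assoc]

noncomputable def frAct : Equiv.Perm ↥S →* MulAut (FreeGroup (FrEdge F)) where
  toFun γ := FreeGroup.freeGroupCongr (frPerm F γ)
  map_one' := by
    refine MulEquiv.toMonoidHom_injective (FreeGroup.ext_hom _ _ fun e => ?_)
    obtain ⟨i, q⟩ := e
    show FreeGroup.of (frPerm F 1 ⟨i, q⟩) = FreeGroup.of ⟨i, q⟩
    simp [frPerm]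
  map_mul' γ δ := by
    refine MulEquiv.toMonoidHom_injective (FreeGroup.ext_hom _ _ fun e => ?_)
    obtain ⟨i, q⟩ := e
    show FreeGroup.of (frPerm F (γ * δ) ⟨i, q⟩) = FreeGroup.of (frPerm F γ (frPerm F δ ⟨i, q⟩))
    simp [frPerm, mul_smul]

/-- The base vertex. -/
def frBase : FrVert S := ((1 : Equiv.Perm ↥S) : FrVert S)

open scoped Classical in
/-- The realizing group. -/
noncomputable def frGroup : Subgroup (SemidirectProduct (FreeGroup (FrEdge F)) (Equiv.Perm ↥S) (frAct F)) where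
  carrier := {g | FPath (frSrc F) (frTgt F) frBase g.left (g.right • frBase)}
  one_mem' := by
    show FPath (frSrc F) (frTgt F) frBase 1 ((1 : Equiv.Perm ↥S) • frBase)
    rw [one_smul]
    exact fpath_one _
  mul_mem' := by
    intro g h hg hh
    show FPath (frSrc F) (frTgt F) frBase (g * h).left ((g * h).right • frBase)
    rw [SemidirectProduct.mul_left, SemidirectProduct.mul_right, mul_smul]
    exact fpath_mul hg (fpath_congr (frPerm F g.right) (fun v => g.right • v) (frSrc_perm F g.right)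
      (frTgt_perm F g.right) hh)
  inv_mem' := by
    intro g hg
    show FPath (frSrc F) (frTgt F) frBase g⁻¹.left (g⁻¹.right • frBase)
    rw [SemidirectProduct.inv_left, SemidirectProduct.inv_right]
    have := fpath_congr (frPerm F g.right⁻¹) (fun v => g.right⁻¹ • v) (frSrc_perm F g.right⁻¹)
      (frTgt_perm F g.right⁻¹) (fpath_inv hg)
    simpa [frAct] using this

theorem frR_smul_base (x : ↥S) : frR S x • (frBase : FrVert S) = frBase := by
  show ((frR S x * 1 : Equiv.Perm ↥S) : FrVert S) = ((1 : Equiv.Perm ↥S) : FrVert S)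
  rw [mul_one, QuotientGroup.eq, mul_one]
  exact inv_mem ⟨x, rfl⟩

/-- The map of `S` into the realizing group. -/
noncomputable def frι : ↥S →* ↥(frGroup F) :=
  (SemidirectProduct.inr.comp (frR S)).codRestrict (frGroup F) fun x => by
    classical
    show FPath (frSrc F) (frTgt F) frBase 1 (frR S x • frBase)
    rw [frR_smul_base]
    exact fpath_one _

/-- `δ` carries `P` into `S` by a map of the system. -/
def FrGood (P : Subgroup Ω) (hP : P ≤ S) (δ : Equiv.Perm ↥S) : Prop :=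
  ∃ (χ : P →* Ω) (hχ : χ ∈ F.Hom P), ∀ x : P,
    frR S (frIncl hP x) * δ = δ * frR S ⟨χ x, (F.le_of_mem hχ).2 x⟩

theorem frGood_rep {P : Subgroup Ω} {hP : P ≤ S} {δ γ : Equiv.Perm ↥S} (h : FrGood F P hP δ)
    (he : (δ : FrVert S) = (γ : FrVert S)) : FrGood F P hP γ := by
  obtain ⟨χ, hχ, heq⟩ := h
  obtain ⟨s, hs⟩ := QuotientGroup.eq.mp he
  have hr : χ.range ≤ S := by
    rintro _ ⟨x, rfl⟩
    exact (F.le_of_mem hχ).2 x
  have hc := F.conj_mem (g := ((s⁻¹ : ↥S) : Ω)) hr (s⁻¹).2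
  refine ⟨_, F.comp_mem hχ hc (fun x => ⟨x, rfl⟩), fun x => ?_⟩
  have hγ : γ = δ * frR S s := by rw [hs, mul_inv_cancel_left]
  have he2 : (⟨((Cfsg.conjHom χ.range ((s⁻¹ : ↥S) : Ω)).comp (χ.codRestrict χ.range fun x => ⟨x, rfl⟩)) x,
      (F.le_of_mem (F.comp_mem hχ hc (fun x => ⟨x, rfl⟩))).2 x⟩ : ↥S) =
      s⁻¹ * ⟨χ x, (F.le_of_mem hχ).2 x⟩ * s := by
    refine Subtype.ext ?_
    simp [Cfsg.conjHom]
    rfl
  rw [he2, hγ, ← mul_assoc, heq, map_mul, map_mul, map_inv]
  simp [mul_assoc]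

theorem frGood_fchain {P : Subgroup Ω} {hP : P ≤ S} (w : List (FrEdge F × Bool))
    (hfix : ∀ l ∈ w, ∀ x : P, frPerm F (frR S (frIncl hP x)) l.1 = l.1) :
    ∀ (δ γ : Equiv.Perm ↥S), FChain (frSrc F) (frTgt F) (δ : FrVert S) w (γ : FrVert S) →
      FrGood F P hP δ → FrGood F P hP γ := by
  induction w with
  | nil => exact fun δ γ h hg => frGood_rep F hg h
  | cons l w ih =>
    obtain ⟨⟨i, q⟩, d⟩ := l
    intro δ γ h hg
    have hl := hfix _ List.mem_cons_self
    obtain ⟨h1, h2⟩ := h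
    have ih' := ih fun l' hl' => hfix l' (List.mem_cons_of_mem _ hl')
    induction q using QuotientGroup.induction_on with
    | H ε =>
      have hp : ∀ x : P, ∃ p : i.1, frR S (frIncl hP x) * ε = ε * frR S (frIncl (F.le_of_mem i.2.2).1 p) := by
        intro x
        have := hl x
        simp only [frPerm, Equiv.sigmaCongrRight_apply, MulAction.toPerm_apply, Sigma.mk.injEq,
          heq_eq_eq, true_and] at this
        change ((frR S (frIncl hP x) * ε : Equiv.Perm ↥S) : Equiv.Perm ↥S ⧸ frK F i) = _ at this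
        obtain ⟨p, hp⟩ := QuotientGroup.eq.mp this.symm
        refine ⟨p, ?_⟩
        simp only [MonoidHom.comp_apply] at hp
        rw [hp, mul_inv_cancel_left]
      choose p hp using hp
      cases d with
      | true =>
        obtain ⟨χ, hχ, heq⟩ := frGood_rep F hg (γ := ε) h1
        have hval : ∀ x : P, χ x = p x := fun x => by
          have := frR_injective (mul_left_cancel ((heq x).symm.trans (hp x)))
          exact congrArg Subtype.val this
        have hin : ∀ x : P, χ x ∈ i.1 := fun x => hval x ▸ (p x).2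
        refine ih' (ε * (frσ F i)⁻¹) γ h2 ⟨_, F.comp_mem hχ i.2.2 hin, fun x => ?_⟩
        have hx : (⟨χ x, hin x⟩ : i.1) = p x := Subtype.ext (hval x)
        have he2 : (⟨(i.2.1.comp (χ.codRestrict i.1 hin)) x,
            (F.le_of_mem (F.comp_mem hχ i.2.2 hin)).2 x⟩ : ↥S) =
            ⟨i.2.1 (p x), (F.le_of_mem i.2.2).2 (p x)⟩ := Subtype.ext (congrArg i.2.1 hx)
        rw [he2, ← mul_assoc, hp]
        have := frσ_spec F i (p x)
        calc ε * frR S (frIncl (F.le_of_mem i.2.2).1 (p x)) * (frσ F i)⁻¹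
            = ε * (frσ F i)⁻¹ * (frσ F i * frR S (frIncl (F.le_of_mem i.2.2).1 (p x))) * (frσ F i)⁻¹ := by
              simp [mul_assoc]
          _ = _ := by rw [this]; simp [mul_assoc]
      | false =>
        obtain ⟨χ, hχ, heq⟩ := frGood_rep F hg (γ := ε * (frσ F i)⁻¹) h1
        have hval : ∀ x : P, χ x = i.2.1 (p x) := fun x => by
          have e1 := heq x
          have e2 : frR S (frIncl hP x) * (ε * (frσ F i)⁻¹) =
              ε * (frσ F i)⁻¹ * frR S ⟨i.2.1 (p x), (F.le_of_mem i.2.2).2 (p x)⟩ := by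
            calc _ = ε * frR S (frIncl (F.le_of_mem i.2.2).1 (p x)) * (frσ F i)⁻¹ := by
                  rw [← mul_assoc, hp]
              _ = ε * (frσ F i)⁻¹ * (frσ F i * frR S (frIncl (F.le_of_mem i.2.2).1 (p x))) * (frσ F i)⁻¹ := by
                  simp [mul_assoc]
              _ = _ := by rw [frσ_spec]; simp [mul_assoc]
          exact congrArg Subtype.val (frR_injective (mul_left_cancel (e1.symm.trans e2)))
        obtain ⟨ψ, hψ, hψφ⟩ := F.inv_mem i.2.2
        have hin : ∀ x : P, χ x ∈ i.2.1.range := fun x => ⟨p x, (hval x).symm⟩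
        refine ih' ε γ h2 ⟨_, F.comp_mem hχ hψ hin, fun x => ?_⟩
        have he2 : (⟨(ψ.comp (χ.codRestrict i.2.1.range hin)) x,
            (F.le_of_mem (F.comp_mem hχ hψ hin)).2 x⟩ : ↥S) =
            frIncl (F.le_of_mem i.2.2).1 (p x) := by
          refine Subtype.ext ?_
          have hx : (⟨χ x, hin x⟩ : i.2.1.range) = ⟨i.2.1 (p x), ⟨p x, rfl⟩⟩ := Subtype.ext (hval x)
          show ψ ⟨χ x, hin x⟩ = (p x : Ω)
          rw [hx, hψφ]
        rw [he2, hp]

theorem fr_realized : F.IsRealizedBy (frι F) := by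
  classical
  refine ⟨fun x y h => frR_injective ?_, fun P hP φ hφ => ⟨fun hmem => ?_, ?_⟩⟩
  · exact congrArg (fun g : ↥(frGroup F) => (g : SemidirectProduct _ _ (frAct F)).right) h
  · let i : FrIdx F := ⟨P, φ, hmem⟩
    let t : SemidirectProduct (FreeGroup (FrEdge F)) (Equiv.Perm ↥S) (frAct F) :=
      ⟨FreeGroup.of ⟨i, ((1 : Equiv.Perm ↥S) : Equiv.Perm ↥S ⧸ frK F i)⟩, (frσ F i)⁻¹⟩
    have ht : t ∈ frGroup F := by
      show FPath _ _ frBase (FreeGroup.of _) ((frσ F i)⁻¹ • frBase)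
      rw [FPath, FreeGroup.toWord_of]
      refine ⟨(frSrc_mk F i 1).symm, ?_⟩
      show frTgt F _ = _
      rw [frTgt_mk, one_mul]
      show _ = (((frσ F i)⁻¹ * 1 : Equiv.Perm ↥S) : FrVert S)
      rw [mul_one]
    refine ⟨(⟨t, ht⟩ : ↥(frGroup F))⁻¹, fun x => ?_⟩
    rw [inv_inv, eq_comm, mul_assoc, inv_mul_eq_iff_eq_mul]
    refine Subtype.ext (SemidirectProduct.ext ?_ ?_)
    · show (1 : FreeGroup _) * frAct F (frR S ⟨x, hP x.2⟩) t.left = t.left * frAct F t.right 1
      rw [one_mul, map_one, mul_one]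
      show FreeGroup.of (frPerm F _ _) = FreeGroup.of _
      refine congrArg FreeGroup.of (Sigma.ext rfl (heq_of_eq ?_))
      show ((frR S ⟨x, hP x.2⟩ * 1 : Equiv.Perm ↥S) : Equiv.Perm ↥S ⧸ frK F i) = _
      rw [mul_one, QuotientGroup.eq, mul_one]
      exact inv_mem ⟨x, rfl⟩
    · show frR S ⟨x, hP x.2⟩ * (frσ F i)⁻¹ = (frσ F i)⁻¹ * frR S ⟨φ x, hφ x⟩
      rw [eq_inv_mul_iff_mul_eq, ← mul_assoc, mul_inv_eq_iff_eq_mul]
      exact frσ_spec F i x
  · rintro ⟨g, hg⟩
    have hh : ∀ x : P, frι F ⟨x, hP x.2⟩ * g⁻¹ = g⁻¹ * frι F ⟨φ x, hφ x⟩ := fun x => by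
      rw [hg x]
      simp [mul_assoc]
    generalize g⁻¹ = k at hh
    obtain ⟨⟨w, γ⟩, hk⟩ := k
    have hfix : ∀ l ∈ w.toWord, ∀ x : P, frPerm F (frR S (frIncl hP x)) l.1 = l.1 := by
      intro l hl x
      have h1 := congrArg (fun g : ↥(frGroup F) => (g : SemidirectProduct _ _ (frAct F)).left) (hh x)
      change (1 : FreeGroup _) * frAct F (frR S ⟨x, hP x.2⟩) w = w * frAct F γ 1 at h1
      rw [one_mul, map_one, mul_one] at h1
      have h2 := congrArg FreeGroup.toWord h1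
      change (FreeGroup.freeGroupCongr _ w).toWord = w.toWord at h2
      rw [toWord_congr] at h2
      obtain ⟨n, hn, rfl⟩ := List.getElem_of_mem hl
      have h3 := congrArg (fun L : List _ => L[n]?) h2
      simp only [List.getElem?_map, List.getElem?_eq_getElem hn, Option.map_some, Option.some.injEq] at h3
      exact congrArg Prod.fst h3
    have hend : FPath (frSrc F) (frTgt F) frBase w (γ • frBase) := hk
    have hb : γ • (frBase : FrVert S) = (γ : FrVert S) := by
      show ((γ * 1 : Equiv.Perm ↥S) : FrVert S) = _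
      rw [mul_one]
    rw [hb] at hend
    have hg1 : FrGood F P hP 1 := by
      refine ⟨Cfsg.conjHom P (1 : Ω), F.conj_mem hP (one_mem S), fun x => ?_⟩
      rw [mul_one, one_mul]
      exact congrArg (frR S) (Subtype.ext (by simp [Cfsg.conjHom, frIncl]))
    obtain ⟨χ, hχ, heq⟩ := frGood_fchain F w.toWord hfix 1 γ hend hg1
    have : χ = φ := MonoidHom.ext fun x => by
      have h1 := congrArg (fun g : ↥(frGroup F) => (g : SemidirectProduct _ _ (frAct F)).right) (hh x)
      change frR S ⟨x, hP x.2⟩ * γ = γ * frR S ⟨φ x, hφ x⟩ at h1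
      exact congrArg Subtype.val (frR_injective (mul_left_cancel ((heq x).symm.trans h1)))
    exact this ▸ hχ

theorem fr_finite_subgroup (H : Subgroup ↥(frGroup F)) (hH : Finite ↥H) :
    ∃ g : ↥(frGroup F), ∀ h ∈ H, g * h * g⁻¹ ∈ (frι F).range := by
  classical
  let a : ↥H → FreeGroup (FrEdge F) := fun h =>
    ((h : ↥(frGroup F)) : SemidirectProduct _ _ (frAct F)).left
  let ρ : ↥H → Equiv.Perm ↥S := fun h =>
    ((h : ↥(frGroup F)) : SemidirectProduct _ _ (frAct F)).right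
  let C : Set (FreeGroup (FrEdge F)) := {x | ∃ b, FPath (frSrc F) (frTgt F) frBase x b}
  obtain ⟨w, ⟨b, hb⟩, hw⟩ := exists_fixed_word a (fun h => frPerm F (ρ h)) (fun h k => rfl) C
    ⟨_, fpath_one _⟩
    (fun h x hx => by
      obtain ⟨c, hc⟩ := hx
      exact ⟨_, fpath_mul (h : ↥(frGroup F)).2
        (fpath_congr (frPerm F (ρ h)) (fun v => ρ h • v) (frSrc_perm F _) (frTgt_perm F _) hc)⟩)
    (fun x hx y hy l v h => by
      obtain ⟨c, hc⟩ := hy
      exact fpath_prefix hx hc h)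
  obtain ⟨δ, rfl⟩ := QuotientGroup.mk_surjective b
  have hδ : (δ : FrVert S) = δ • frBase := by
    show _ = ((δ * 1 : Equiv.Perm ↥S) : FrVert S)
    rw [mul_one]
  have hg : (⟨w, δ⟩ : SemidirectProduct (FreeGroup (FrEdge F)) (Equiv.Perm ↥S) (frAct F)) ∈ frGroup F := by
    show FPath _ _ frBase w (δ • frBase)
    rwa [← hδ]
  set g : ↥(frGroup F) := ⟨_, hg⟩ with hgdef
  refine ⟨g⁻¹, fun h hh => ?_⟩
  have hfix : ρ ⟨h, hh⟩ • (δ : FrVert S) = (δ : FrVert S) := by
    refine fchain_unique (w := w.toWord) ?_ hb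
    have := fpath_mul h.2 (fpath_congr (frPerm F (ρ ⟨h, hh⟩)) (fun v => ρ ⟨h, hh⟩ • v)
      (frSrc_perm F _) (frTgt_perm F _) hb)
    rw [show (h : SemidirectProduct _ _ (frAct F)).left *
      FreeGroup.freeGroupCongr (frPerm F (ρ ⟨h, hh⟩)) w = w from hw ⟨h, hh⟩] at this
    exact this
  change ((ρ ⟨h, hh⟩ * δ : Equiv.Perm ↥S) : FrVert S) = _ at hfix
  obtain ⟨s, hs⟩ := QuotientGroup.eq.mp hfix.symm
  refine ⟨s, ?_⟩
  rw [inv_inv, eq_comm, mul_assoc, inv_mul_eq_iff_eq_mul]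
  refine Subtype.ext (SemidirectProduct.ext ?_ ?_)
  · show (h : SemidirectProduct _ _ (frAct F)).left * frAct F _ w = w * frAct F δ 1
    rw [map_one, mul_one]
    exact hw ⟨h, hh⟩
  · show ρ ⟨h, hh⟩ * δ = δ * frR S s
    rw [hs, mul_inv_cancel_left]

theorem fr_free_normal : ∃ N : Subgroup ↥(frGroup F),
    N.Normal ∧ IsFreeGroup ↥N ∧ N.index ∣ (Nat.card ↥S).factorial := by
  let π : ↥(frGroup F) →* Equiv.Perm ↥S := SemidirectProduct.rightHom.comp (frGroup F).subtype
  let f : ↥π.ker →* FreeGroup (FrEdge F) :=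
    { toFun := fun g => ((g : ↥(frGroup F)) : SemidirectProduct _ _ (frAct F)).left
      map_one' := rfl
      map_mul' := fun g h => by
        have hg : ((g : ↥(frGroup F)) : SemidirectProduct _ _ (frAct F)).right = 1 := g.2
        show _ * frAct F _ _ = _
        rw [hg, map_one]
        rfl }
  have hf : Function.Injective f := fun g h e =>
    Subtype.ext (Subtype.ext (SemidirectProduct.ext e
      ((MonoidHom.mem_ker.mp g.2).trans (MonoidHom.mem_ker.mp h.2).symm)))
  refine ⟨π.ker, inferInstance, IsFreeGroup.ofMulEquiv (MonoidHom.ofInjective hf).symm, ?_⟩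
  rw [Subgroup.index_ker, ← Nat.card_perm]
  exact Subgroup.card_subgroup_dvd_card _

end

end Cfsg.Agent.Lib.FusionRealize
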